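import Groth.Agent.QRel17.Theta
import Groth.Agent.AmpleX.Sect
import Groth.Agent.FrobSplit29.Power
import Groth.Agent.ProjQX.LineBundle

/-!
# An immersion into a relative `Proj` gives relative ampleness
-/

set_option autoImplicit false
set_option linter.style.haveILetI false
set_option backward.isDefEq.respectTransparency false
set_option backward.isDefEq.respectTransparency.types false

universe u

open CategoryTheory CategoryTheory.Limits AlgebraicGeometry TopologicalSpace Opposite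
open scoped HomogeneousIdeal

noncomputable section

namespace Groth.Agent.QRel17

open Groth.Agent Groth.Agent.AModX Groth.Agent.SymAlgX

variable {X Y : Scheme.{u}} {f : X ⟶ Y} {L : X.Modules} (hL : PicF.IsInvertible L) (hLq : Coh.IsQCoh L)
  {𝒮L : RelProj.QCGrAlg X} {jL : L ⟶ 𝒮L.toModule} (hjL : RelProj.IsGrSymAlg L 𝒮L jL)
  {𝒜 : RelProj.QCGrAlg Y} (u : RelProj.QGrHom f 𝒜 𝒮L)

/-- `b` has coordinate `r` with respect to the frame `s`. -/
def Coord (m : ℕ) {W : X.Opens} (s : Γ(L, W)) (b : 𝒮L.presheaf.obj (op W)) (r : Γ(X, W)) : Prop :=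
  b = (𝒮L.str.app (op W)).hom r * jv 𝒮L.toQCAlg jL W s ^ m

theorem Coord.res {m : ℕ} {W W' : X.Opens} (h : W' ≤ W) {s : Γ(L, W)} {b : 𝒮L.presheaf.obj (op W)} {r : Γ(X, W)}
    (hc : Coord (jL := jL) m s b r) :
    Coord (jL := jL) m (res L h s) (QCoh.rB 𝒮L.toQCAlg h b) (resR h r) := by
  unfold Coord at hc ⊢
  rw [hc, map_mul, map_pow, QCoh.rB_str, rB_res]
  rfl

theorem evT_monomial_pow {W : X.Opens} (s : Γ(L, W)) (m : ℕ) (r : Γ(X, W)) :
    S12143.evT jL s (Polynomial.C r * Polynomial.X ^ m) =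
      (𝒮L.str.app (op W)).hom r * jv 𝒮L.toQCAlg jL W s ^ m := by
  show Polynomial.eval₂ _ _ (Polynomial.C r * Polynomial.X ^ m) = _
  rw [Polynomial.eval₂_mul, Polynomial.eval₂_C, Polynomial.eval₂_pow, Polynomial.eval₂_X]

include hLq hjL in
theorem Coord.powT_eq {m : ℕ} {W : X.Opens} (hW : IsAffineOpen W) {s s' : Γ(L, W)} (hs : InvX.IsFrame s)
    {b : 𝒮L.presheaf.obj (op W)} {r r' : Γ(X, W)}
    (hc : Coord (jL := jL) m s b r) (hc' : Coord (jL := jL) m s' b r') :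
    r • FrobSplit29.powT s m = r' • FrobSplit29.powT s' m := by
  obtain ⟨c, rfl⟩ := (bijective_of_isFrame hs).2 s'
  simp only [Coord, RelVA16.jv_smul, mul_pow, ← mul_assoc, ← map_pow, ← map_mul] at hc'
  unfold Coord at hc
  rw [← evT_monomial_pow] at hc hc'
  have h := congrArg (Polynomial.coeff · m)
    ((S12143.evT_bijective hLq hjL.1 hW s (bijective_of_isFrame hs)).1 (hc.symm.trans hc'))
  simp only [Polynomial.coeff_C_mul, Polynomial.coeff_X_pow_self, mul_one] at h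
  show r • FrobSplit29.powT s m = r' • FrobSplit29.powT (c • s) m
  rw [FrobSplit29.powT_smul, ← mul_smul, h]

variable {U : Y.Opens} (hU : IsAffineOpen U) {m : ℕ} {b : 𝒜.presheaf.obj (op U)} (hb : b ∈ 𝒜.deg U hU m)

include hL hLq hjL hb in
/-- A degree `m` element of `𝒜` gives a section of `L^{⊗ m}`. -/
theorem exists_sect : ∃ a : Γ(CohB1.tensorPow L m, f ⁻¹ᵁ U),
    ∀ (W : X.Opens) (hW : IsAffineOpen W) (hWU : W ≤ f ⁻¹ᵁ U) (s : Γ(L, W)), InvX.IsFrame s → ∀ r : Γ(X, W),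
      Coord (jL := jL) m s ((u.appLE U W hWU).hom b) r → res _ hWU a = r • FrobSplit29.powT s m := by
  classical
  have hloc : ∀ x : (f ⁻¹ᵁ U : X.Opens), ∃ (W : X.Opens) (hW : IsAffineOpen W) (h : W ≤ f ⁻¹ᵁ U) (s : Γ(L, W))
      (r : Γ(X, W)), x.1 ∈ W ∧ InvX.IsFrame s ∧ Coord (jL := jL) m s ((u.appLE U W h).hom b) r := fun x => by
    obtain ⟨W, hW, hxW, hWU, s, hs⟩ := exists_affine_frame hL x.2
    obtain ⟨r, hr⟩ := S12143.mem_deg_eq hLq hjL hW s (bijective_of_isFrame hs) (u.map_mem U hU W hW hWU hb)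
    exact ⟨W, hW, hWU, s, r, hxW, hs, hr⟩
  choose W hW hWU s r hxW hs hr using hloc
  have key : ∀ (V V' : X.Opens) (hV : V ≤ f ⁻¹ᵁ U) (hV' : V' ≤ f ⁻¹ᵁ U) (t : Γ(L, V)) (t' : Γ(L, V'))
      (q : Γ(X, V)) (q' : Γ(X, V')), InvX.IsFrame t → Coord (jL := jL) m t ((u.appLE U V hV).hom b) q →
      Coord (jL := jL) m t' ((u.appLE U V' hV').hom b) q' →
      res _ inf_le_left (q • FrobSplit29.powT t m) =
        res (CohB1.tensorPow L m) (inf_le_right : V ⊓ V' ≤ V') (q' • FrobSplit29.powT t' m) := by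
    intro V V' hV hV' t t' q q' ht hq hq'
    refine eq_of_locally _ _ fun x hx => ?_
    obtain ⟨D, hD, hxD, hDle⟩ := exists_isAffineOpen_mem_and_subset (X := X) (x := x) (U := V ⊓ V') hx
    refine ⟨D, hDle, hxD, ?_⟩
    have h1 : D ≤ V := fun y hy => (hDle hy).1
    have h2 : D ≤ V' := fun y hy => (hDle hy).2
    rw [res_res, res_res, res_smul, res_smul, FrobSplit29.powT_res, FrobSplit29.powT_res]
    refine Coord.powT_eq hLq hjL hD (ht.res _) (b := (u.appLE U D (h1.trans hV)).hom b) ?_ ?_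
    · have := hq.res (jL := jL) h1
      rwa [show QCoh.rB 𝒮L.toQCAlg h1 ((u.appLE U V hV).hom b) = (u.appLE U D (h1.trans hV)).hom b from
        ConcreteCategory.congr_hom (u.appLE_map hV h1) b] at this
    · have := hq'.res (jL := jL) h2
      rwa [show QCoh.rB 𝒮L.toQCAlg h2 ((u.appLE U V' hV').hom b) = (u.appLE U D (h1.trans hV)).hom b from
        ConcreteCategory.congr_hom (u.appLE_map hV' h2) b] at this
  obtain ⟨a, ha, -⟩ := existsUnique_glue (M := CohB1.tensorPow L m) W hWU (fun p hp => ⟨⟨p, hp⟩, hxW _⟩)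
    (fun x => r x • FrobSplit29.powT (s x) m) fun x y =>
      key (W x) (W y) (hWU x) (hWU y) (s x) (s y) (r x) (r y) (hs x) (hr x) (hr y)
  refine ⟨a, fun V _ hV t ht q hq => eq_of_locally _ _ fun x hx => ?_⟩
  refine ⟨V ⊓ W ⟨x, hV hx⟩, inf_le_left, ⟨hx, hxW _⟩, ?_⟩
  rw [res_res, key V (W _) hV (hWU _) t (s _) q (r _) ht hq (hr _), ← ha ⟨x, hV hx⟩, res_res]

variable {P PL : Scheme.{u}} {p : P ⟶ Y}
  {chart : ∀ (U : Y.Opens) (hU : IsAffineOpen U), (((p ⁻¹ᵁ U : P.Opens) : Scheme.{u}) ≅ Proj (𝒜.deg U hU))}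
  (hP : RelProj.IsRelProj 𝒜 p chart) {pL : PL ⟶ X}
  {chartL : ∀ (U : X.Opens) (hU : IsAffineOpen U), (((pL ⁻¹ᵁ U : PL.Opens) : Scheme.{u}) ≅ Proj (𝒮L.deg U hU))}
  (hPL : RelProj.IsRelProj 𝒮L pL chartL)
  {r : ((RelProj.domQ u pL chartL : PL.Opens) : Scheme.{u}) ⟶ P}
  (hr : RelProj.IsProjQMapOn u p chart pL chartL (RelProj.domQ u pL chartL) r)

include hLq hjL hP hPL hr in
/-- Where the section attached to `b` generates. -/
theorem mem_locus_iff {a : Γ(CohB1.tensorPow L m, f ⁻¹ᵁ U)}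
    (ha : ∀ (W : X.Opens) (hW : IsAffineOpen W) (hWU : W ≤ f ⁻¹ᵁ U) (s : Γ(L, W)), InvX.IsFrame s → ∀ r : Γ(X, W),
      Coord (jL := jL) m s ((u.appLE U W hWU).hom b) r → res _ hWU a = r • FrobSplit29.powT s m)
    (hL : PicF.IsInvertible L) (hm : 0 < m) (hb : b ∈ 𝒜.deg U hU m)
    (y : (RelProj.domQ u pL chartL : Scheme.{u})) (hy : f (pL y.1) ∈ U) :
    pL y.1 ∈ AmpleX.locus a ↔ r y ∈ RelProj.emb p chart U hU ''ᵁ Proj.basicOpen (𝒜.deg U hU) b := by
  obtain ⟨W, hW, hxW, hWU, s, hs⟩ := exists_affine_frame hL (show pL y.1 ∈ f ⁻¹ᵁ U from hy)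
  obtain ⟨c, hc⟩ := S12143.mem_deg_eq hLq hjL hW s (bijective_of_isFrame hs) (u.map_mem U hU W hW hWU hb)
  have h1 := AmpleX.locus_inf a hWU (FrobSplit29.isFrame_powT hs m) (ha W hW hWU s hs c hc)
  have h2 : pL y.1 ∈ AmpleX.locus a ↔ pL y.1 ∈ X.basicOpen c := by
    rw [← h1]
    exact ⟨fun h => ⟨h, hxW⟩, fun h => h.1⟩
  obtain ⟨z, hz⟩ := (ProjQX.mem_opensRange_emb (chart := chartL) hW).mpr hxW
  rw [h2, ProjQX.map_mem_iff hP hPL hr hWU hm hb y hz, ← hz, ProjQX.emb_mem_basicOpen_iff hPL hW z c]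
  have hsz := ProjQX.notMem_of_span hLq hjL hW (RelVA16.span_frame hLq hjL hW hs) z
  show ¬ _ ↔ ¬ ((u.appLE U W hWU).hom b ∈ _)
  refine not_congr ?_
  let Q : Ideal (𝒮L.presheaf.obj (op W)) := (z : ProjectiveSpectrum (𝒮L.deg W hW)).asHomogeneousIdeal.toIdeal
  show (𝒮L.str.app (op W)).hom c ∈ Q ↔ (u.appLE U W hWU).hom b ∈ Q
  rw [show (u.appLE U W hWU).hom b = _ from hc]
  refine ⟨fun h => Ideal.mul_mem_right _ _ h, fun h => ?_⟩
  exact ((z : ProjectiveSpectrum (𝒮L.deg W hW)).isPrime.mem_or_mem h).resolve_right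
    fun h' => hsz ((z : ProjectiveSpectrum (𝒮L.deg W hW)).isPrime.mem_of_pow_mem m h')

include hL hLq hjL hP hPL hr in
/-- An everywhere defined immersion into `Proj(𝒜)` makes `L` relatively ample. -/
theorem isRelAmple_of_isImmersion [QuasiCompact f] (htop : RelProj.domQ u pL chartL = ⊤) [IsImmersion r] :
    RelAmple.IsRelAmple f L := by
  haveI := ProjQX.Family.isIso_pL hL hLq hjL hPL
  haveI : IsIso (RelProj.domQ u pL chartL).ι :=
    isIso_of_isOpenImmersion_of_opensRange_eq_top _ ((Scheme.Opens.opensRange_ι _).trans htop)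
  let e : X ⟶ (RelProj.domQ u pL chartL : Scheme.{u}) := inv ((RelProj.domQ u pL chartL).ι ≫ pL)
  let r₀ : X ⟶ P := e ≫ r
  have he : ∀ x : X, pL (e x).1 = x := fun x => by
    show ((RelProj.domQ u pL chartL).ι ≫ pL) (e x) = x
    rw [← Scheme.Hom.comp_apply, IsIso.inv_hom_id]; rfl
  have hr₀ : r₀ ≫ p = f := by
    show (inv ((RelProj.domQ u pL chartL).ι ≫ pL) ≫ r) ≫ p = f
    rw [Category.assoc, ProjQX.comp_eq hP hPL hr, IsIso.inv_comp_eq, Category.assoc]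
  refine AmpleX.isRelAmple_of_sections hL fun x => ?_
  obtain ⟨U, hU, hxU, -⟩ := exists_isAffineOpen_mem_and_subset (X := Y) (x := f x) (U := ⊤) trivial
  refine ⟨U, hxU, f.isCompact_preimage hU.isCompact, fun x' hx' => ?_⟩
  haveI : IsImmersion r₀ := inferInstanceAs (IsImmersion (e ≫ r))
  have hyU : r₀ x' ∈ p ⁻¹ᵁ U := by
    show p (r₀ x') ∈ U
    rw [← Scheme.Hom.comp_apply, hr₀]; exact hx'
  obtain ⟨z, hz⟩ := (ProjQX.mem_opensRange_emb (chart := chart) hU (x := r₀ x')).mpr hyU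
  let O : P.Opens := r₀.coborderRange
  have hzO : z ∈ RelProj.emb p chart U hU ⁻¹ᵁ O := by
    show RelProj.emb p chart U hU z ∈ O
    rw [hz]; exact subset_coborder ⟨x', rfl⟩
  obtain ⟨m, g, hm, hg, hzg, hsub⟩ := Proj16.exists_basicOpen_subset (RelProj.emb p chart U hU ⁻¹ᵁ O).2 hzO
  obtain ⟨a, ha⟩ := exists_sect hL hLq hjL u hU hg
  let D : P.Opens := RelProj.emb p chart U hU ''ᵁ Proj.basicOpen (𝒜.deg U hU) g
  have hD : IsAffineOpen D :=
    (Proj.isAffineOpen_basicOpen (𝒜.deg U hU) g hg hm).image_of_isOpenImmersion _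
  have hDU : D ≤ p ⁻¹ᵁ U := by
    rintro _ ⟨w, -, rfl⟩
    exact (ProjQX.mem_opensRange_emb (chart := chart) hU).mp ⟨w, rfl⟩
  have hloc : AmpleX.locus a = r₀ ⁻¹ᵁ D := by
    ext w
    by_cases hw : f w ∈ U
    · have := mem_locus_iff hLq hjL u hU hP hPL hr ha hL hm hg (e w) (by rw [he]; exact hw)
      rw [he] at this
      exact this
    · refine ⟨fun h => absurd (AmpleX.locus_le a h) hw, fun h => absurd ?_ hw⟩
      show f w ∈ U
      rw [← hr₀, Scheme.Hom.comp_apply]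
      exact hDU h
  refine ⟨m, hm, a, ?_, ?_⟩
  · rw [hloc]; exact ⟨z, hzg, hz⟩
  · rw [hloc]
    have hDO : D ≤ O := by rintro _ ⟨w, hw, rfl⟩; exact hsub hw
    have h1 : IsAffineOpen (O.ι ⁻¹ᵁ D) :=
      hD.preimage_of_isOpenImmersion O.ι (hDO.trans (Scheme.Opens.opensRange_ι O).ge)
    have h2 := h1.preimage r₀.liftCoborder
    rwa [← Scheme.Hom.comp_preimage, Scheme.Hom.liftCoborder_ι] at h2

end Groth.Agent.QRel17
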