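import Groth.Agent.QRel17.Ample

/-!
# Sections of the symmetric algebra of an invertible module: vanishing and extension
-/

set_option autoImplicit false
set_option linter.style.haveILetI false
set_option backward.isDefEq.respectTransparency false
set_option backward.isDefEq.respectTransparency.types false

universe u

open CategoryTheory CategoryTheory.Limits AlgebraicGeometry TopologicalSpace Opposite
open scoped HomogeneousIdeal

noncomputable section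

namespace Groth.Agent.QRel17

open Groth.Agent Groth.Agent.AModX Groth.Agent.SymAlgX

variable {X : Scheme.{u}} {L : X.Modules} (hL : PicF.IsInvertible L) (hLq : Coh.IsQCoh L)
  (𝒮L : RelProj.QCGrAlg X) {jL : L ⟶ 𝒮L.toModule} (hjL : RelProj.IsGrSymAlg L 𝒮L jL)

/-- Restriction in the algebra. -/
abbrev rs {U V : X.Opens} (h : V ≤ U) : 𝒮L.presheaf.obj (op U) →+* 𝒮L.presheaf.obj (op V) :=
  QCoh.rB 𝒮L.toQCAlg h

theorem rs_rs {U V W : X.Opens} (h : V ≤ U) (h' : W ≤ V) (b : 𝒮L.presheaf.obj (op U)) :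
    rs 𝒮L h' (rs 𝒮L h b) = rs 𝒮L (h'.trans h) b := rB_rB 𝒮L.toQCAlg h h' b

theorem rs_str {U V : X.Opens} (h : V ≤ U) (a : Γ(X, U)) :
    rs 𝒮L h ((𝒮L.str.app (op U)).hom a) = (𝒮L.str.app (op V)).hom (resR h a) := QCoh.rB_str 𝒮L.toQCAlg h a

theorem rs_jv {L : X.Modules} (j : L ⟶ 𝒮L.toModule) {U V : X.Opens} (h : V ≤ U) (s : Γ(L, U)) :
    rs 𝒮L h (jv 𝒮L.toQCAlg j U s) = jv 𝒮L.toQCAlg j V (res L h s) := rB_res j h s

theorem eq_of_locally_alg {O : X.Opens} (a b : 𝒮L.presheaf.obj (op O))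
    (h : ∀ x ∈ O, ∃ (W : X.Opens) (i : W ≤ O), x ∈ W ∧ rs 𝒮L i a = rs 𝒮L i b) : a = b :=
  AModX.eq_of_locally (M := 𝒮L.toModule) a b h

/-- Degree `n` on every affine open. -/
def LocDeg (n : ℕ) {O : X.Opens} (y : 𝒮L.presheaf.obj (op O)) : Prop :=
  ∀ (W : X.Opens) (hW : IsAffineOpen W) (h : W ≤ O), rs 𝒮L h y ∈ 𝒮L.deg W hW n

variable {𝒮L}

theorem LocDeg.mul {n k : ℕ} {O : X.Opens} {y z : 𝒮L.presheaf.obj (op O)} (hy : LocDeg 𝒮L n y)
    (hz : LocDeg 𝒮L k z) : LocDeg 𝒮L (n + k) (y * z) := fun W hW h => by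
  rw [map_mul]; exact SetLike.mul_mem_graded (hy W hW h) (hz W hW h)

theorem LocDeg.one {O : X.Opens} : LocDeg 𝒮L 0 (1 : 𝒮L.presheaf.obj (op O)) := fun W hW h => by
  rw [map_one]; exact SetLike.GradedOne.one_mem

theorem LocDeg.pow {n : ℕ} {O : X.Opens} {y : 𝒮L.presheaf.obj (op O)} (hy : LocDeg 𝒮L n y) (k : ℕ) :
    LocDeg 𝒮L (k * n) (y ^ k) := fun W hW h => by
  rw [map_pow]; simpa using SetLike.pow_mem_graded k (hy W hW h)

theorem LocDeg.rs {n : ℕ} {O O' : X.Opens} (i : O' ≤ O) {y : 𝒮L.presheaf.obj (op O)} (hy : LocDeg 𝒮L n y) :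
    LocDeg 𝒮L n (rs 𝒮L i y) := fun W hW h => by
  rw [rs_rs]; exact hy W hW _

theorem LocDeg.sub {n : ℕ} {O : X.Opens} {y z : 𝒮L.presheaf.obj (op O)} (hy : LocDeg 𝒮L n y)
    (hz : LocDeg 𝒮L n z) : LocDeg 𝒮L n (y - z) := fun W hW h => by
  rw [map_sub]; exact sub_mem (hy W hW h) (hz W hW h)

theorem LocDeg.of_eq {n n' : ℕ} (h : n = n') {O : X.Opens} {y : 𝒮L.presheaf.obj (op O)}
    (hy : LocDeg 𝒮L n y) : LocDeg 𝒮L n' y := h ▸ hy

include hLq hjL in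
theorem Coord.unique {m : ℕ} {W : X.Opens} (hW : IsAffineOpen W) {s : Γ(L, W)} (hs : InvX.IsFrame s)
    {b : 𝒮L.presheaf.obj (op W)} {r r' : Γ(X, W)}
    (h : Coord (jL := jL) m s b r) (h' : Coord (jL := jL) m s b r') : r = r' :=
  (bijective_of_isFrame (InvX.IsFrame.res (FrobSplit29.isFrame_powT hs m) le_rfl)).1 (by
    simpa [AModX.res_self] using Coord.powT_eq hLq hjL hW hs h h')

/-- `V` is where `b` generates degree `m`. -/
def IsLocus (jL : L ⟶ 𝒮L.toModule) (m : ℕ) {O : X.Opens} (b : 𝒮L.presheaf.obj (op O)) (V : X.Opens) : Prop :=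
  ∀ (W : X.Opens) (_ : IsAffineOpen W) (h : W ≤ O) (s : Γ(L, W)), InvX.IsFrame s →
    ∀ c : Γ(X, W), Coord (jL := jL) m s (rs 𝒮L h b) c → W ⊓ V = X.basicOpen c

theorem IsLocus.rs {m : ℕ} {O O' V : X.Opens} (i : O' ≤ O) {b : 𝒮L.presheaf.obj (op O)}
    (hb : IsLocus jL m b V) : IsLocus jL m (rs 𝒮L i b) V := fun W hW h s hs c hc => by
  rw [rs_rs] at hc
  exact hb W hW _ s hs c hc

/-- Homogeneity is local. -/
theorem mem_deg_of_locally {W : X.Opens} (hW : IsAffineOpen W) {n : ℕ} {y : 𝒮L.presheaf.obj (op W)}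
    (h : ∀ x ∈ W, ∃ (D : X.Opens) (hD : IsAffineOpen D) (i : D ≤ W), x ∈ D ∧ rs 𝒮L i y ∈ 𝒮L.deg D hD n) :
    y ∈ 𝒮L.deg W hW n := by
  have hy : y = (DirectSum.decompose (𝒮L.deg W hW) y n : 𝒮L.presheaf.obj (op W)) := by
    refine eq_of_locally_alg 𝒮L _ _ fun x hx => ?_
    obtain ⟨D, hD, i, hxD, hd⟩ := h x hx
    refine ⟨D, i, hxD, ?_⟩
    have h1 := (𝒮L.res hW hD i).map_directSumDecompose (x := y) (i := n)
    exact ((DirectSum.decompose_of_mem_same (𝒮L.deg D hD) hd).symm).trans h1.symm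
  rw [hy]
  exact SetLike.coe_mem _

include hL in
theorem exists_finite_frames {O : X.Opens} (hO : IsCompact (O : Set X)) :
    ∃ S : Set X.Opens, S.Finite ∧ (∀ W ∈ S, IsAffineOpen W ∧ W ≤ O ∧ ∃ s : Γ(L, W), InvX.IsFrame s) ∧
      ∀ x ∈ O, ∃ W ∈ S, x ∈ W := by
  choose W hW hxW hWO s hs using fun x : (O : Set X) => exists_affine_frame hL (show x.1 ∈ O from x.2)
  obtain ⟨T, hT⟩ := hO.elim_finite_subcover (fun x => (W x : Set X)) (fun x => (W x).2)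
    (fun x hx => Set.mem_iUnion.2 ⟨⟨x, hx⟩, hxW _⟩)
  refine ⟨W '' (T : Set _), T.finite_toSet.image W, ?_, fun x hx => ?_⟩
  · rintro _ ⟨i, -, rfl⟩
    exact ⟨hW i, hWO i, s i, hs i⟩
  · obtain ⟨i, hi, hxi⟩ := Set.mem_iUnion₂.1 (hT hx)
    exact ⟨W i, ⟨i, hi, rfl⟩, hxi⟩

include hL hLq hjL in
/-- A homogeneous section vanishing on the locus of `b` is killed by a power of `b`. -/
theorem exists_pow_mul_eq_zero {m n : ℕ} {O V : X.Opens} (hO : IsCompact (O : Set X))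
    {b : 𝒮L.presheaf.obj (op O)} (hb : LocDeg 𝒮L m b) (hV : IsLocus jL m b V)
    {y : 𝒮L.presheaf.obj (op O)} (hy : LocDeg 𝒮L n y) (h0 : rs 𝒮L (inf_le_left : O ⊓ V ≤ O) y = 0) :
    ∃ k : ℕ, b ^ k * y = 0 := by
  classical
  obtain ⟨S, hS, hSW, hcov⟩ := exists_finite_frames hL hO
  have hloc : ∀ W ∈ S, ∃ k : ℕ, ∀ h : W ≤ O, rs 𝒮L h (b ^ k * y) = 0 := fun W hWS => by
    obtain ⟨hW, hWO, s, hs⟩ := hSW W hWS
    obtain ⟨c, hc⟩ := S12143.mem_deg_eq hLq hjL hW s (bijective_of_isFrame hs) (hb W hW hWO)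
    obtain ⟨e, he⟩ := S12143.mem_deg_eq hLq hjL hW s (bijective_of_isFrame hs) (hy W hW hWO)
    have hloc := hV W hW hWO s hs c hc
    have hsub : X.basicOpen c ≤ O ⊓ V := hloc ▸ inf_le_inf_right V hWO
    have hD := hW.basicOpen c
    have he0 : resR (X.basicOpen_le c) e = 0 := by
      have h1 : Coord (jL := jL) n (res L (X.basicOpen_le c) s) (rs 𝒮L ((X.basicOpen_le c).trans hWO) y)
          (resR (X.basicOpen_le c) e) := by
        have := Coord.res (jL := jL) (X.basicOpen_le c) (show Coord (jL := jL) n s _ e from he)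
        rwa [show QCoh.rB 𝒮L.toQCAlg (X.basicOpen_le c) (rs 𝒮L hWO y) = _ from rs_rs 𝒮L hWO (X.basicOpen_le c) y]
          at this
      refine Coord.unique hLq hjL hD (hs.res _) h1 ?_
      show _ = (𝒮L.str.app _).hom 0 * _
      rw [map_zero, zero_mul, ← rs_rs 𝒮L (inf_le_left : O ⊓ V ≤ O) hsub, h0, map_zero]
    letI : Algebra Γ(X, W) Γ(X, X.basicOpen c) := (X.presheaf.map (homOfLE (X.basicOpen_le c)).op).hom.toAlgebra
    haveI : IsLocalization.Away c Γ(X, X.basicOpen c) := hW.isLocalization_basicOpen c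
    obtain ⟨⟨_, k, rfl⟩, hk⟩ := (IsLocalization.map_eq_zero_iff (Submonoid.powers c) Γ(X, X.basicOpen c) e).1 he0
    refine ⟨k, fun h => ?_⟩
    rw [map_mul, map_pow, show rs 𝒮L h b = _ from hc, show rs 𝒮L h y = _ from he, mul_pow, ← map_pow,
      mul_mul_mul_comm, ← map_mul, show c ^ k * e = 0 from hk, map_zero, zero_mul]
  choose! k hk using hloc
  refine ⟨hS.toFinset.sup k, eq_of_locally_alg 𝒮L _ _ fun x hx => ?_⟩
  obtain ⟨W, hWS, hxW⟩ := hcov x hx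
  have hWO := (hSW W hWS).2.1
  refine ⟨W, hWO, hxW, ?_⟩
  obtain ⟨d, hd⟩ := Nat.exists_eq_add_of_le (Finset.le_sup (f := k) (hS.mem_toFinset.2 hWS))
  rw [hd, pow_add, mul_comm (b ^ k W) (b ^ d), mul_assoc, map_mul (rs 𝒮L hWO) (b ^ d), hk W hWS hWO, mul_zero,
    map_zero]

include hL hLq hjL in
/-- Functions on the locus of `b` are fractions with a power of `b` as denominator. -/
theorem exists_extend_alg {m : ℕ} {O V : X.Opens} (hO : IsCompact (O : Set X))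
    (hqs : ∀ A B : X.Opens, IsAffineOpen A → IsAffineOpen B → A ≤ O → B ≤ O → IsCompact ((A ⊓ B : X.Opens) : Set X))
    {b : 𝒮L.presheaf.obj (op O)} (hb : LocDeg 𝒮L m b) (hV : IsLocus jL m b V) (hVO : V ≤ O) (t : Γ(X, V)) :
    ∃ (k : ℕ) (y : 𝒮L.presheaf.obj (op O)), LocDeg 𝒮L (k * m) y ∧
      rs 𝒮L hVO y = (𝒮L.str.app (op V)).hom t * rs 𝒮L hVO b ^ k := by
  classical
  obtain ⟨S, hS, hSW, hcov⟩ := exists_finite_frames hL hO
  have hloc : ∀ W ∈ S, ∃ k₀ : ℕ, ∀ k, k₀ ≤ k → ∃ y : 𝒮L.presheaf.obj (op W), LocDeg 𝒮L (k * m) y ∧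
      ∀ (h : W ≤ O), rs 𝒮L (inf_le_left : W ⊓ V ≤ W) y =
        (𝒮L.str.app (op (W ⊓ V))).hom (resR inf_le_right t) * rs 𝒮L (inf_le_left.trans h) b ^ k := fun W hWS => by
    obtain ⟨hW, hWO, s, hs⟩ := hSW W hWS
    obtain ⟨c, hc⟩ := S12143.mem_deg_eq hLq hjL hW s (bijective_of_isFrame hs) (hb W hW hWO)
    have hloc := hV W hW hWO s hs c hc
    letI : Algebra Γ(X, W) Γ(X, X.basicOpen c) := (X.presheaf.map (homOfLE (X.basicOpen_le c)).op).hom.toAlgebra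
    haveI : IsLocalization.Away c Γ(X, X.basicOpen c) := hW.isLocalization_basicOpen c
    obtain ⟨⟨e, _, k₀, rfl⟩, he⟩ :=
      IsLocalization.surj (Submonoid.powers c) (resR (hloc ▸ inf_le_right : X.basicOpen c ≤ V) t)
    change resR (hloc ▸ inf_le_right : X.basicOpen c ≤ V) t * resR (X.basicOpen_le c) (c ^ k₀) =
      resR (X.basicOpen_le c) e at he
    refine ⟨k₀, fun k hk => ⟨(𝒮L.str.app (op W)).hom (c ^ (k - k₀) * e) * jv 𝒮L.toQCAlg jL W s ^ (k * m),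
      fun W' hW' h => ?_, fun h => ?_⟩⟩
    · rw [map_mul (rs 𝒮L h), map_pow (rs 𝒮L h), rs_str, rs_jv]
      have := SetLike.mul_mem_graded (A := 𝒮L.deg W' hW') (𝒮L.str_mem W' hW' (resR h (c ^ (k - k₀) * e)))
        (SetLike.pow_mem_graded (k * m) (hjL.2 W' hW' (res L h s)))
      rw [zero_add, smul_eq_mul, mul_one] at this
      exact this
    · have he' : resR (inf_le_left : W ⊓ V ≤ W) e =
          resR (inf_le_right : W ⊓ V ≤ V) t * resR (inf_le_left : W ⊓ V ≤ W) c ^ k₀ := by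
        have := congrArg (resR hloc.le) he
        rw [map_mul, map_pow, map_pow, resR_resR, resR_resR, resR_resR] at this
        exact this.symm
      rw [show rs 𝒮L (inf_le_left.trans h) b = rs 𝒮L inf_le_left (rs 𝒮L h b) from (rs_rs 𝒮L h _ b).symm,
        show rs 𝒮L h b = _ from hc, map_mul, map_pow, map_mul (rs 𝒮L _) _ (jv 𝒮L.toQCAlg jL W s ^ m), map_pow,
        rs_str, rs_str,
        show resR (inf_le_left : W ⊓ V ≤ W) (c ^ (k - k₀) * e) =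
          resR (inf_le_right : W ⊓ V ≤ V) t * resR (inf_le_left : W ⊓ V ≤ W) c ^ k by
          rw [map_mul, he', map_pow, ← mul_assoc, mul_comm _ (resR (inf_le_right : W ⊓ V ≤ V) t), mul_assoc,
            ← pow_add, Nat.sub_add_cancel hk],
        map_mul, map_pow, mul_pow, mul_assoc, ← pow_mul, mul_comm m k]
  choose! k₀ hk₀ using hloc
  let k₁ := hS.toFinset.sup k₀
  choose! y hy using fun W (hWS : W ∈ S) => hk₀ W hWS k₁ (Finset.le_sup (f := k₀) (hS.mem_toFinset.2 hWS))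
  have hd : ∀ p ∈ S ×ˢ S, ∃ k : ℕ, ∀ h : p.1 ⊓ p.2 ≤ O,
      rs 𝒮L h b ^ k * (rs 𝒮L inf_le_left (y p.1) - rs 𝒮L inf_le_right (y p.2)) = 0 := by
    rintro ⟨A, B⟩ ⟨hA, hB⟩
    obtain ⟨hAa, hAO, -⟩ := hSW A hA
    obtain ⟨hBa, hBO, -⟩ := hSW B hB
    obtain ⟨k, hk⟩ := exists_pow_mul_eq_zero hL hLq hjL (hqs A B hAa hBa hAO hBO)
      (hb.rs (inf_le_left.trans hAO)) (hV.rs (inf_le_left.trans hAO))
      (((hy A hA).1.rs inf_le_left).sub ((hy B hB).1.rs (inf_le_right : A ⊓ B ≤ B))) (by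
        have h1 := congrArg (rs 𝒮L (le_inf (inf_le_left.trans inf_le_left) inf_le_right : A ⊓ B ⊓ V ≤ A ⊓ V))
          ((hy A hA).2 hAO)
        have h2 := congrArg (rs 𝒮L (le_inf (inf_le_left.trans inf_le_right) inf_le_right : A ⊓ B ⊓ V ≤ B ⊓ V))
          ((hy B hB).2 hBO)
        rw [map_mul, map_pow, rs_rs, rs_rs] at h1 h2
        rw [map_sub, rs_rs, rs_rs, h1, h2, sub_eq_zero]
        congr 1
        refine Eq.trans (rs_str 𝒮L _ _) (Eq.trans ?_ (rs_str 𝒮L _ _).symm)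
        show (𝒮L.str.app _).hom (resR _ (resR _ t)) = (𝒮L.str.app _).hom (resR _ (resR _ t))
        rw [resR_resR, resR_resR])
    exact ⟨k, fun h => hk⟩
  choose! k₂ hk₂ using hd
  let k₃ := (hS.prod hS).toFinset.sup k₂
  let y' : ∀ W : S, 𝒮L.presheaf.obj (op W.1) := fun W => rs 𝒮L (hSW W.1 W.2).2.1 b ^ k₃ * y W.1
  obtain ⟨Yg, hYg, -⟩ := existsUnique_glue (M := 𝒮L.toModule) (V := O) (fun W : S => W.1)
    (fun W => (hSW W.1 W.2).2.1) (fun x hx => let ⟨W, hW, hxW⟩ := hcov x hx; ⟨⟨W, hW⟩, hxW⟩) y' fun A B => by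
      show rs 𝒮L inf_le_left (y' A) = rs 𝒮L inf_le_right (y' B)
      obtain ⟨d, hd⟩ := Nat.exists_eq_add_of_le
        (Finset.le_sup (f := k₂) ((hS.prod hS).mem_toFinset.2 (Set.mk_mem_prod A.2 B.2)))
      have h := hk₂ (A.1, B.1) ⟨A.2, B.2⟩ (inf_le_left.trans (hSW A.1 A.2).2.1)
      rw [← sub_eq_zero]
      simp only [y', map_mul, map_pow, rs_rs]
      rw [← mul_sub, show k₃ = k₂ (A.1, B.1) + d from hd, pow_add, mul_right_comm, h, zero_mul]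
  refine ⟨k₃ + k₁, Yg, fun W hW h => ?_, ?_⟩
  · -- local degree
    have hdeg : ∀ (W' : S), LocDeg 𝒮L ((k₃ + k₁) * m) (y' W') := fun W' =>
      (((hb.rs _).pow k₃).mul (hy W'.1 W'.2).1).of_eq (add_mul k₃ k₁ m).symm
    refine mem_deg_of_locally hW fun x hx => ?_
    obtain ⟨W', hW', hxW'⟩ := hcov x (h hx)
    obtain ⟨D, hD, hxD, hDle⟩ := exists_isAffineOpen_mem_and_subset (X := X) (x := x) (U := W ⊓ W') ⟨hx, hxW'⟩
    have hD1 : D ≤ W := fun z hz => (hDle hz).1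
    have hD2 : D ≤ W' := fun z hz => (hDle hz).2
    refine ⟨D, hD, hD1, hxD, ?_⟩
    rw [rs_rs, ← rs_rs 𝒮L (hSW W' hW').2.1 hD2, show rs 𝒮L (hSW W' hW').2.1 Yg = y' ⟨W', hW'⟩ from hYg ⟨W', hW'⟩]
    exact hdeg ⟨W', hW'⟩ D hD hD2
  · refine eq_of_locally_alg 𝒮L _ _ fun x hx => ?_
    obtain ⟨W, hW, hxW⟩ := hcov x (hVO hx)
    refine ⟨W ⊓ V, inf_le_right, ⟨hxW, hx⟩, ?_⟩
    rw [rs_rs, ← rs_rs 𝒮L (hSW W hW).2.1 inf_le_left, show rs 𝒮L (hSW W hW).2.1 Yg = y' ⟨W, hW⟩ from hYg ⟨W, hW⟩]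
    simp only [y', map_mul, map_pow, rs_rs]
    rw [(hy W hW).2 (hSW W hW).2.1, show rs 𝒮L (inf_le_right : W ⊓ V ≤ V) ((𝒮L.str.app (op V)).hom t) = _ from
      rs_str 𝒮L _ _, pow_add]
    exact mul_left_comm _ _ _

end Groth.Agent.QRel17
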