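import Groth.Agent.QRel17.Extend
import Groth.Agent.Proj16.RelBasic

/-!
# The canonical morphism `X → Proj (⊕ f_* L^{⊗ n})`
-/

set_option autoImplicit false
set_option linter.style.haveILetI false
set_option backward.isDefEq.respectTransparency false
set_option backward.isDefEq.respectTransparency.types false

universe u

open CategoryTheory CategoryTheory.Limits AlgebraicGeometry TopologicalSpace Opposite
open scoped HomogeneousIdeal

noncomputable section

namespace Groth.Agent.QRel17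

open Groth.Agent Groth.Agent.AModX Groth.Agent.SymAlgX

variable {X Y : Scheme.{u}} {f : X ⟶ Y} {L : X.Modules} (hL : PicF.IsInvertible L) (hLq : Coh.IsQCoh L)
  {𝒮L : RelProj.QCGrAlg X} {jL : L ⟶ 𝒮L.toModule} (hjL : RelProj.IsGrSymAlg L 𝒮L jL)

include hL hLq hjL in
/-- A section of `L^{⊗ m}` gives a homogeneous element of the symmetric algebra. -/
theorem exists_alg_of_sect {m : ℕ} {O : X.Opens} (a : Γ(CohB1.tensorPow L m, O)) :
    ∃ y : 𝒮L.presheaf.obj (op O), LocDeg 𝒮L m y ∧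
      ∀ (W : X.Opens) (hW : IsAffineOpen W) (h : W ≤ O) (s : Γ(L, W)), InvX.IsFrame s → ∀ c : Γ(X, W),
        Coord (jL := jL) m s (rs 𝒮L h y) c → res _ h a = c • FrobSplit29.powT s m := by
  classical
  choose W hW hxW hWO s hs using fun x : (O : Set X) => exists_affine_frame hL (show x.1 ∈ O from x.2)
  choose c hc using fun x : (O : Set X) =>
    (bijective_of_isFrame (FrobSplit29.isFrame_powT (hs x) m)).2 (res _ (hWO x) a)
  let y₀ : ∀ x : (O : Set X), 𝒮L.presheaf.obj (op (W x)) := fun x =>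
    (𝒮L.str.app (op (W x))).hom (c x) * jv 𝒮L.toQCAlg jL (W x) (s x) ^ m
  have key : ∀ (x : (O : Set X)) (D : X.Opens), IsAffineOpen D → ∀ (h : D ≤ W x) (t : Γ(L, D)), InvX.IsFrame t →
      ∀ e : Γ(X, D), Coord (jL := jL) m t (rs 𝒮L h (y₀ x)) e →
        res _ (h.trans (hWO x)) a = e • FrobSplit29.powT t m := fun x D hD h t ht e he => by
    have h1 : Coord (jL := jL) m (res L h (s x)) (rs 𝒮L h (y₀ x)) (resR h (c x)) :=
      Coord.res (jL := jL) h (show Coord (jL := jL) m (s x) (y₀ x) (c x) from rfl)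
    rw [← res_res (hWO x) h, ← hc x, res_smul, FrobSplit29.powT_res]
    exact Coord.powT_eq hLq hjL hD ((hs x).res h) h1 he
  obtain ⟨y, hy, -⟩ := existsUnique_glue (M := 𝒮L.toModule) W hWO (fun p hp => ⟨⟨p, hp⟩, hxW _⟩) y₀ fun i j => by
    refine eq_of_locally_alg 𝒮L _ _ fun p hp => ?_
    obtain ⟨D, hD, hpD, hDle⟩ := exists_isAffineOpen_mem_and_subset (X := X) (x := p) (U := W i ⊓ W j) hp
    have hDi : D ≤ W i := fun z hz => (hDle hz).1
    have hDj : D ≤ W j := fun z hz => (hDle hz).2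
    refine ⟨D, hDle, hpD, ?_⟩
    show rs 𝒮L _ (rs 𝒮L inf_le_left (y₀ i)) = rs 𝒮L _ (rs 𝒮L inf_le_right (y₀ j))
    rw [rs_rs, rs_rs]
    have ht := (hs i).res hDi
    have hb : ∀ (x : (O : Set X)) (h : D ≤ W x), rs 𝒮L h (y₀ x) ∈ 𝒮L.deg D hD m := fun x h => by
      show rs 𝒮L h ((𝒮L.str.app (op (W x))).hom (c x) * jv 𝒮L.toQCAlg jL (W x) (s x) ^ m) ∈ _
      rw [map_mul, map_pow, rs_str, rs_jv]
      have := SetLike.mul_mem_graded (A := 𝒮L.deg D hD) (𝒮L.str_mem D hD (resR h (c x)))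
        (SetLike.pow_mem_graded m (hjL.2 D hD (res L h (s x))))
      rw [zero_add, smul_eq_mul, mul_one] at this
      exact this
    obtain ⟨e₁, he₁⟩ := S12143.mem_deg_eq hLq hjL hD _ (bijective_of_isFrame ht) (hb i hDi)
    obtain ⟨e₂, he₂⟩ := S12143.mem_deg_eq hLq hjL hD _ (bijective_of_isFrame ht) (hb j hDj)
    have := (bijective_of_isFrame (FrobSplit29.isFrame_powT ht m)).1
      ((key i D hD hDi _ ht e₁ he₁).symm.trans (key j D hD hDj _ ht e₂ he₂))
    rw [show rs 𝒮L hDi (y₀ i) = _ from he₁, show rs 𝒮L hDj (y₀ j) = _ from he₂, this]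
  have hyW : ∀ x, rs 𝒮L (hWO x) y = y₀ x := hy
  refine ⟨y, fun V hV h => mem_deg_of_locally hV fun p hp => ?_, fun V hV h t ht e he => ?_⟩
  · obtain ⟨D, hD, hpD, hDle⟩ :=
      exists_isAffineOpen_mem_and_subset (X := X) (x := p) (U := V ⊓ W ⟨p, h hp⟩) ⟨hp, hxW _⟩
    have hD1 : D ≤ V := fun z hz => (hDle hz).1
    have hD2 : D ≤ W ⟨p, h hp⟩ := fun z hz => (hDle hz).2
    refine ⟨D, hD, hD1, hpD, ?_⟩
    rw [rs_rs, ← rs_rs 𝒮L (hWO ⟨p, h hp⟩) hD2, hyW]
    show rs 𝒮L hD2 ((𝒮L.str.app (op (W _))).hom (c _) * jv 𝒮L.toQCAlg jL (W _) (s _) ^ m) ∈ _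
    rw [map_mul, map_pow, rs_str, rs_jv]
    have := SetLike.mul_mem_graded (A := 𝒮L.deg D hD) (𝒮L.str_mem D hD (resR hD2 (c ⟨p, h hp⟩)))
      (SetLike.pow_mem_graded m (hjL.2 D hD (res L hD2 (s ⟨p, h hp⟩))))
    rw [zero_add, smul_eq_mul, mul_one] at this
    exact this
  · refine eq_of_locally _ _ fun p hp => ?_
    obtain ⟨D, hD, hpD, hDle⟩ :=
      exists_isAffineOpen_mem_and_subset (X := X) (x := p) (U := V ⊓ W ⟨p, h hp⟩) ⟨hp, hxW _⟩
    have hD1 : D ≤ V := fun z hz => (hDle hz).1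
    have hD2 : D ≤ W ⟨p, h hp⟩ := fun z hz => (hDle hz).2
    refine ⟨D, hD1, hpD, ?_⟩
    rw [res_res, res_smul, FrobSplit29.powT_res, key _ D hD hD2 _ (ht.res hD1) (resR hD1 e) ?_]
    rw [← hyW, rs_rs]
    have := Coord.res (jL := jL) hD1 he
    rwa [show QCoh.rB 𝒮L.toQCAlg hD1 (rs 𝒮L h y) = _ from rs_rs 𝒮L h hD1 y] at this

variable {𝒜 : RelProj.QCGrAlg Y} (u : RelProj.QGrHom f 𝒜 𝒮L)

theorem rs_app {U : Y.Opens} {W : X.Opens} (h : W ≤ f ⁻¹ᵁ U) (g : 𝒜.presheaf.obj (op U)) :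
    rs 𝒮L h ((u.app U).hom g) = (u.appLE U W h).hom g := rfl

theorem locDeg_app {U : Y.Opens} (hU : IsAffineOpen U) {m : ℕ} {g : 𝒜.presheaf.obj (op U)}
    (hg : g ∈ 𝒜.deg U hU m) : LocDeg 𝒮L m ((u.app U).hom g) :=
  fun W hW h => u.map_mem U hU W hW h hg

include hL hLq hjL in
theorem exists_sect_locus {U : Y.Opens} (hU : IsAffineOpen U) {m : ℕ} {g : 𝒜.presheaf.obj (op U)}
    (hg : g ∈ 𝒜.deg U hU m) : ∃ a : Γ(CohB1.tensorPow L m, f ⁻¹ᵁ U),
      (∀ (W : X.Opens) (hW : IsAffineOpen W) (hWU : W ≤ f ⁻¹ᵁ U) (s : Γ(L, W)), InvX.IsFrame s → ∀ r : Γ(X, W),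
        Coord (jL := jL) m s ((u.appLE U W hWU).hom g) r → res _ hWU a = r • FrobSplit29.powT s m) ∧
      IsLocus jL m ((u.app U).hom g) (AmpleX.locus a) := by
  obtain ⟨a, ha⟩ := exists_sect hL hLq hjL u hU hg
  refine ⟨a, ha, fun W hW h s hs c hc => ?_⟩
  rw [inf_comm]
  exact AmpleX.locus_inf a h (FrobSplit29.isFrame_powT hs m) (ha W hW h s hs c hc)

variable (hu : ∀ y : Y, ∃ (U : Y.Opens) (_ : IsAffineOpen U), y ∈ U ∧ Function.Bijective (u.app U).hom)

theorem exists_homogeneous {U : Y.Opens} (hU : IsAffineOpen U) (huU : Function.Bijective (u.app U).hom) {m : ℕ} {y : 𝒮L.presheaf.obj (op (f ⁻¹ᵁ U))}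
    (hy : LocDeg 𝒮L m y) : ∃ g ∈ 𝒜.deg U hU m, (u.app U).hom g = y := by
  obtain ⟨g, hg⟩ := huU.2 y
  refine ⟨_, SetLike.coe_mem (DirectSum.decompose (𝒜.deg U hU) g m), ?_⟩
  refine eq_of_locally_alg 𝒮L _ _ fun x hx => ?_
  obtain ⟨W, hW, hxW, hle⟩ := exists_isAffineOpen_mem_and_subset (X := X) (x := x) (U := f ⁻¹ᵁ U) hx
  refine ⟨W, hle, hxW, ?_⟩
  have h1 := (u.gradedAt U hU W hW hle).map_directSumDecompose (x := g) (i := m)
  refine Eq.trans (show rs 𝒮L (show W ≤ f ⁻¹ᵁ U from hle) ((u.app U).hom _) = _ from h1)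
    (DirectSum.decompose_of_mem_same (𝒮L.deg W hW) ?_) |>.trans ?_
  · show (u.appLE U W hle).hom g ∈ _
    rw [← rs_app, hg]; exact hy W hW hle
  · show (u.appLE U W hle).hom g = _
    rw [← rs_app, hg]

variable {P PL : Scheme.{u}} {p : P ⟶ Y}
  {chart : ∀ (U : Y.Opens) (hU : IsAffineOpen U), (((p ⁻¹ᵁ U : P.Opens) : Scheme.{u}) ≅ Proj (𝒜.deg U hU))}
  (hP : RelProj.IsRelProj 𝒜 p chart) {pL : PL ⟶ X}
  {chartL : ∀ (U : X.Opens) (hU : IsAffineOpen U), (((pL ⁻¹ᵁ U : PL.Opens) : Scheme.{u}) ≅ Proj (𝒮L.deg U hU))}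
  (hPL : RelProj.IsRelProj 𝒮L pL chartL)
  {r : ((RelProj.domQ u pL chartL : PL.Opens) : Scheme.{u}) ⟶ P}
  (hr : RelProj.IsProjQMapOn u p chart pL chartL (RelProj.domQ u pL chartL) r)

include hL hLq hjL hPL hu in
/-- Everywhere defined when `L` is ample. -/
theorem domQ_eq_top_of_isRelAmple (h : RelAmple.IsRelAmple f L) : RelProj.domQ u pL chartL = ⊤ := by
  refine top_le_iff.1 fun y _ => ?_
  obtain ⟨U, hU, hxU, huU⟩ := hu (f (pL y))
  obtain ⟨m, hm, a, hxa, -, -⟩ := AmpleX.exists_sections_of_isRelAmple h hU hxU (U := ⊤) trivial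
  obtain ⟨Y₀, hY₀, hcoord⟩ := exists_alg_of_sect hL hLq hjL a
  obtain ⟨g, hg, hgY⟩ := exists_homogeneous u hU huU hY₀
  obtain ⟨W, hW, hxW, hWU, s, hs⟩ := exists_affine_frame hL (show pL y ∈ f ⁻¹ᵁ U from hxU)
  obtain ⟨c, hc⟩ := S12143.mem_deg_eq hLq hjL hW s (bijective_of_isFrame hs) (hY₀ W hW hWU)
  have hloc := AmpleX.locus_inf a hWU (FrobSplit29.isFrame_powT hs m) (hcoord W hW hWU s hs c hc)
  have hxc : pL y ∈ X.basicOpen c := hloc ▸ ⟨hxa, hxW⟩
  obtain ⟨z, hz⟩ := (ProjQX.mem_opensRange_emb (chart := chartL) hW).mpr hxW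
  rw [← hz] at hxc
  have hcz := (ProjQX.emb_mem_basicOpen_iff hPL hW z c).1 hxc
  have hgz : z ∈ Proj.basicOpen (𝒮L.deg W hW) (u.gradedAt U hU W hW hWU g) := by
    show ¬ ((u.appLE U W hWU).hom g ∈ _)
    rw [← rs_app, hgY, show rs 𝒮L hWU Y₀ = _ from hc]
    intro hmem
    rcases (z : ProjectiveSpectrum (𝒮L.deg W hW)).isPrime.mem_or_mem hmem with h' | h'
    · exact hcz h'
    · exact ProjQX.notMem_of_span hLq hjL hW (RelVA16.span_frame hLq hjL hW hs) z
        ((z : ProjectiveSpectrum (𝒮L.deg W hW)).isPrime.mem_of_pow_mem m h')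
  rw [← hz]
  exact (ProjQX.emb_mem_domQ_iff' hPL hU hW hWU z).mpr (ProjQX.mem_domOpen_of_homogeneous _ hm hg hgz)

include hL hLq hjL hP hPL hr hu in
/-- The image is dense. -/
theorem isDominant_r [QuasiCompact f] (htop : RelProj.domQ u pL chartL = ⊤) : IsDominant r := by
  haveI := ProjQX.Family.isIso_pL hL hLq hjL hPL
  refine ⟨dense_iff_inter_open.2 fun O hO hne => ?_⟩
  obtain ⟨π, hπ⟩ := hne
  obtain ⟨U, hU, hpU, huU⟩ := hu (p π)
  obtain ⟨z, hz⟩ := (ProjQX.mem_opensRange_emb (chart := chart) hU (x := π)).mpr hpU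
  obtain ⟨m, g, hm, hg, hzg, hsub⟩ := Proj16.exists_basicOpen_subset
    (hO.preimage (RelProj.emb p chart U hU).continuous) (show z ∈ RelProj.emb p chart U hU ⁻¹' O from by show _ ∈ O; rw [hz]; exact hπ)
  obtain ⟨a, ha, haloc⟩ := exists_sect_locus hL hLq hjL u hU hg
  by_cases hemp : AmpleX.locus a = ⊥
  · exfalso
    obtain ⟨k, hk⟩ := exists_pow_mul_eq_zero hL hLq hjL (f.isCompact_preimage hU.isCompact)
      (locDeg_app u hU hg) haloc (LocDeg.one (O := f ⁻¹ᵁ U)) (by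
        refine eq_of_locally_alg 𝒮L _ _ fun x hx => ?_
        have : x ∈ AmpleX.locus a := hx.2
        rw [hemp] at this
        exact this.elim)
    rw [mul_one, ← map_pow] at hk
    have hg0 : g ^ k = 0 := huU.1 (hk.trans (map_zero _).symm)
    exact hzg ((z : ProjectiveSpectrum (𝒜.deg U hU)).isPrime.mem_of_pow_mem k (hg0 ▸ Ideal.zero_mem _))
  · obtain ⟨x, hx⟩ : (AmpleX.locus a : Set X).Nonempty := by
      rw [Set.nonempty_iff_ne_empty]
      exact fun h => hemp (Opens.ext h)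
    obtain ⟨y, rfl⟩ := pL.homeomorph.surjective x
    have hydom : y ∈ RelProj.domQ u pL chartL := htop ▸ trivial
    refine ⟨r ⟨y, hydom⟩, ?_, ⟨y, hydom⟩, rfl⟩
    obtain ⟨w, hw, hwy⟩ := (mem_locus_iff hLq hjL u hU hP hPL hr ha hL hm hg ⟨y, hydom⟩
      (AmpleX.locus_le a hx)).1 hx
    rw [← hwy]
    exact hsub hw

include hL hLq hjL hP hPL hr in
/-- Over `D₊(g)` with affine non-vanishing locus, an isomorphism. -/
theorem isIso_restrict [QuasiCompact f] [QuasiSeparated f] (htop : RelProj.domQ u pL chartL = ⊤) {U : Y.Opens}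
    (hU : IsAffineOpen U) (huU : Function.Bijective (u.app U).hom) {m : ℕ} (hm : 0 < m) {g : 𝒜.presheaf.obj (op U)} (hg : g ∈ 𝒜.deg U hU m)
    {a : Γ(CohB1.tensorPow L m, f ⁻¹ᵁ U)}
    (ha : ∀ (W : X.Opens) (hW : IsAffineOpen W) (hWU : W ≤ f ⁻¹ᵁ U) (s : Γ(L, W)), InvX.IsFrame s → ∀ r : Γ(X, W),
      Coord (jL := jL) m s ((u.appLE U W hWU).hom g) r → res _ hWU a = r • FrobSplit29.powT s m)
    (haloc : IsLocus jL m ((u.app U).hom g) (AmpleX.locus a)) (haff : IsAffineOpen (AmpleX.locus a)) :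
    IsIso (r ∣_ (RelProj.emb p chart U hU ''ᵁ Proj.basicOpen (𝒜.deg U hU) g)) := by
  haveI := ProjQX.Family.isIso_pL hL hLq hjL hPL
  let V := AmpleX.locus a
  have hVU : V ≤ f ⁻¹ᵁ U := AmpleX.locus_le a
  let i : ProjQX.Idx u := ⟨U, hU, V, haff, hVU, m, hm, g, hg⟩
  let b := u.gradedAt U hU V haff hVU g
  let D := RelProj.emb p chart U hU ''ᵁ Proj.basicOpen (𝒜.deg U hU) g
  have htb : Proj.basicOpen (𝒮L.deg V haff) b = ⊤ := by
    refine top_le_iff.1 fun z _ => ?_
    have hzV : pL (RelProj.emb pL chartL V haff z) ∈ V := (ProjQX.mem_opensRange_emb haff).mp ⟨z, rfl⟩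
    have hdom : RelProj.emb pL chartL V haff z ∈ RelProj.domQ u pL chartL := htop ▸ trivial
    exact (ProjQX.map_mem_iff hP hPL hr hVU hm hg ⟨_, hdom⟩ (z := z) rfl).mp
      ((mem_locus_iff hLq hjL u hU hP hPL hr ha hL hm hg ⟨_, hdom⟩ (hVU hzV)).1 hzV)
  let f₀ := Proj.awayι (𝒮L.deg V haff) b ((u.gradedAt U hU V haff hVU).map_mem hg) hm
  haveI : IsIso f₀ :=
    isIso_of_isOpenImmersion_of_opensRange_eq_top _ ((Proj.opensRange_awayι _ _ _ hm).trans htb)
  let σ : Γ(X, V) ⟶ CommRingCat.of (HomogeneousLocalization.Away (𝒮L.deg V haff) b) :=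
    𝒮L.strZero V haff ≫ CommRingCat.ofHom
      (HomogeneousLocalization.fromZeroRingHom (𝒮L.deg V haff) (Submonoid.powers b))
  have hσ : Function.Bijective σ.hom := by
    let e := f₀ ≫ RelProj.emb pL chartL V haff ≫ pL
    have he : e = Spec.map σ ≫ haff.fromSpec := by
      simp only [e, f₀]
      rw [ProjQX.emb_over hPL V haff, Proj.awayι_toSpecZero_assoc, Spec.map_comp, Category.assoc]
    have herange : Set.range e = Set.range haff.fromSpec := by
      rw [haff.range_fromSpec]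
      ext x
      constructor
      · rintro ⟨w, rfl⟩
        rw [he]
        exact haff.range_fromSpec.le ⟨Spec.map σ w, rfl⟩
      · intro hx
        obtain ⟨y, rfl⟩ := pL.homeomorph.surjective x
        obtain ⟨z, rfl⟩ := (ProjQX.mem_opensRange_emb (chart := chartL) haff).mpr hx
        obtain ⟨w, rfl⟩ := f₀.surjective z
        exact ⟨w, rfl⟩
    haveI : IsIso (Spec.map σ) := by
      rw [show Spec.map σ = (IsOpenImmersion.isoOfRangeEq e haff.fromSpec herange).hom by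
        rw [← cancel_mono haff.fromSpec, IsOpenImmersion.isoOfRangeEq_hom_fac, he]]
      infer_instance
    exact (isIso_SpecMap_iff (f := σ)).mp inferInstance
  let mp := HomogeneousLocalization.Away.map (u.gradedAt U hU V haff hVU) g
  have hqs : ∀ A B : X.Opens, IsAffineOpen A → IsAffineOpen B → A ≤ f ⁻¹ᵁ U → B ≤ f ⁻¹ᵁ U →
      IsCompact ((A ⊓ B : X.Opens) : Set X) := fun A B hA hB hAU hBU => by
    have hqs' : IsQuasiSeparated ((f ⁻¹ᵁ U : X.Opens) : Set X) :=
      f.isQuasiSeparated_preimage hU.isQuasiSeparated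
    exact hqs' A B hAU A.2 hA.isCompact hBU B.2 hB.isCompact
  have hmp : Function.Bijective mp := by
    constructor
    · refine (injective_iff_map_eq_zero _).mpr fun w hw => ?_
      obtain ⟨k, e, he, rfl⟩ := w.mk_surjective (𝒜.deg U hU) hg
      have hw' := congrArg HomogeneousLocalization.val hw
      change (HomogeneousLocalization.Away.map (u.gradedAt U hU V haff hVU) g
        (HomogeneousLocalization.Away.mk _ hg k e he)).val = _ at hw'
      rw [HomogeneousLocalization.Away.map_mk, HomogeneousLocalization.Away.val_mk, HomogeneousLocalization.val_zero,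
        Localization.mk_eq_mk', IsLocalization.mk'_eq_zero_iff] at hw'
      obtain ⟨⟨_, l, rfl⟩, hl⟩ := hw'
      have hge : g ^ l * e ∈ 𝒜.deg U hU ((l + k) * m) := by
        have := SetLike.mul_mem_graded (A := 𝒜.deg U hU) (SetLike.pow_mem_graded l hg) he
        simpa [← add_mul] using this
      obtain ⟨j, hj⟩ := exists_pow_mul_eq_zero hL hLq hjL (f.isCompact_preimage hU.isCompact)
        (locDeg_app u hU hg) haloc (locDeg_app u hU hge) (by
          have h1 : rs 𝒮L hVU ((u.app U).hom (g ^ l * e)) = 0 := by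
            rw [map_mul, map_mul, map_pow, map_pow]; exact hl
          rw [← rs_rs 𝒮L hVU (inf_le_right : f ⁻¹ᵁ U ⊓ V ≤ V), h1, map_zero])
      rw [← map_pow, ← map_mul, ← mul_assoc, ← pow_add] at hj
      apply HomogeneousLocalization.val_injective
      rw [HomogeneousLocalization.Away.val_mk, HomogeneousLocalization.val_zero, Localization.mk_eq_mk',
        IsLocalization.mk'_eq_zero_iff]
      exact ⟨⟨g ^ (j + l), j + l, rfl⟩, huU.1 (hj.trans (map_zero _).symm)⟩
    · intro w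
      obtain ⟨t, rfl⟩ := hσ.2 w
      obtain ⟨k, y, hy, hyV⟩ := exists_extend_alg hL hLq hjL (f.isCompact_preimage hU.isCompact) hqs
        (locDeg_app u hU hg) haloc hVU t
      obtain ⟨e, he, hey⟩ := exists_homogeneous u hU huU hy
      refine ⟨HomogeneousLocalization.Away.mk (𝒜.deg U hU) hg k e (by simpa using he),
        HomogeneousLocalization.val_injective _ ?_⟩
      rw [HomogeneousLocalization.Away.map_mk, HomogeneousLocalization.Away.val_mk]
      show _ = Localization.mk ((𝒮L.str.app (op V)).hom t) (1 : Submonoid.powers b)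
      rw [Localization.mk_eq_mk_iff, Localization.r_iff_exists]
      refine ⟨1, ?_⟩
      simp only [OneMemClass.coe_one, one_mul]
      show (u.appLE U V hVU).hom e = (u.appLE U V hVU).hom g ^ k * (𝒮L.str.app (op V)).hom t
      rw [← rs_app, ← rs_app, hey, hyV, mul_comm]
  haveI : IsIso (Spec.map (CommRingCat.ofHom mp)) := by
    haveI : IsIso (CommRingCat.ofHom mp) := (ConcreteCategory.isIso_iff_bijective _).2 hmp
    infer_instance
  have hsrc : Set.range (ProjQX.embDom chartL i) = Set.range (r ⁻¹ᵁ D).ι := by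
    rw [Scheme.Opens.range_ι]
    ext y
    constructor
    · rintro ⟨w, rfl⟩
      show r (ProjQX.embDom chartL i w) ∈ D
      rw [← Scheme.Hom.comp_apply, (ProjQX.isProjQMapOn_domQ_iff u chart chartL r).mp hr i]
      refine ⟨Proj.awayι (𝒜.deg U hU) g hg hm (Spec.map (CommRingCat.ofHom mp) w), ?_, rfl⟩
      exact (Proj.opensRange_awayι (𝒜.deg U hU) g hg hm).le ⟨_, rfl⟩
    · intro hy
      have hfy : f (pL y.1) ∈ U := by
        obtain ⟨w, -, hw⟩ := hy
        have h1 := (ProjQX.mem_opensRange_emb (chart := chart) hU (x := r y)).mp ⟨w, hw⟩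
        rwa [← Scheme.Hom.comp_apply, ProjQX.comp_eq hP hPL hr] at h1
      have hyV : pL y.1 ∈ V := (mem_locus_iff hLq hjL u hU hP hPL hr ha hL hm hg y hfy).2 hy
      obtain ⟨z, hz⟩ := (ProjQX.mem_opensRange_emb (chart := chartL) haff).mpr hyV
      obtain ⟨w, rfl⟩ := f₀.surjective z
      refine ⟨w, (RelProj.domQ u pL chartL).ι.isOpenEmbedding.injective ?_⟩
      rw [← Scheme.Hom.comp_apply, ProjQX.embDom_ι]
      exact hz
  let bD := Proj.awayι (𝒜.deg U hU) g hg hm ≫ RelProj.emb p chart U hU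
  have htgt : Set.range bD = Set.range D.ι := by
    rw [Scheme.Opens.range_ι]
    refine (congrArg (fun W : P.Opens => (W : Set P)) ?_ : (bD.opensRange : Set P) = _)
    rw [Scheme.Hom.opensRange_comp, Proj.opensRange_awayι]
  haveI : IsOpenImmersion (ProjQX.embDom chartL i) := by
    haveI : IsOpenImmersion (ProjQX.embDom chartL i ≫ (RelProj.domQ u pL chartL).ι) := by
      rw [ProjQX.embDom_ι]; infer_instance
    exact IsOpenImmersion.of_comp _ (RelProj.domQ u pL chartL).ι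
  let e₁ := IsOpenImmersion.isoOfRangeEq (ProjQX.embDom chartL i) (r ⁻¹ᵁ D).ι hsrc
  let e₂ := IsOpenImmersion.isoOfRangeEq bD D.ι htgt
  have h : e₁.hom ≫ r ∣_ D = Spec.map (CommRingCat.ofHom mp) ≫ e₂.hom := by
    rw [← cancel_mono D.ι, Category.assoc, morphismRestrict_ι, Category.assoc,
      IsOpenImmersion.isoOfRangeEq_hom_fac, IsOpenImmersion.isoOfRangeEq_hom_fac_assoc,
      (ProjQX.isProjQMapOn_domQ_iff u chart chartL r).mp hr i]
    rfl
  haveI : IsIso (e₁.hom ≫ r ∣_ D) := by rw [h]; infer_instance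
  exact IsIso.of_isIso_comp_left e₁.hom (r ∣_ D)

include hL hLq hjL hP hPL hr hu in
/-- An open immersion when `L` is ample. -/
theorem isOpenImmersion_r [QuasiCompact f] (hA : RelAmple.IsRelAmple f L) : IsOpenImmersion r := by
  haveI := ProjQX.Family.isIso_pL hL hLq hjL hPL
  haveI : IsSeparated f := AmpleX.isSeparated_of_ampleOn fun x => AmpleX.ampleOn_of_isRelAmple hA (f x)
  have htop := domQ_eq_top_of_isRelAmple hL hLq hjL u hu hPL hA
  have hloc : ∀ y : (RelProj.domQ u pL chartL : Scheme.{u}), ∃ D : P.Opens, r y ∈ D ∧ IsIso (r ∣_ D) := fun y => by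
    obtain ⟨U, hU, hxU, huU⟩ := hu (f (pL y.1))
    obtain ⟨m, hm, a₀, hxa, -, haff⟩ := AmpleX.exists_sections_of_isRelAmple hA hU hxU (U := ⊤) trivial
    obtain ⟨Y₀, hY₀, hcoord⟩ := exists_alg_of_sect hL hLq hjL a₀
    obtain ⟨g, hg, hgY⟩ := exists_homogeneous u hU huU hY₀
    obtain ⟨a, ha, haloc⟩ := exists_sect_locus hL hLq hjL u hU hg
    have heq : a = a₀ := eq_of_locally _ _ fun x hx => by
      obtain ⟨W, hW, hxW, hWU, s, hs⟩ := exists_affine_frame hL hx
      obtain ⟨c, hc⟩ := S12143.mem_deg_eq hLq hjL hW s (bijective_of_isFrame hs) (hY₀ W hW hWU)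
      refine ⟨W, hWU, hxW, ?_⟩
      rw [hcoord W hW hWU s hs c hc, ha W hW hWU s hs c]
      show (u.appLE U W hWU).hom g = _
      rw [← rs_app, hgY]; exact hc
    subst heq
    exact ⟨_, (mem_locus_iff hLq hjL u hU hP hPL hr ha hL hm hg y hxU).1 hxa,
      isIso_restrict hL hLq hjL u hP hPL hr htop hU huU hm hg ha haloc haff⟩
  choose D hyD hD using hloc
  refine IsOpenImmersion.of_openCover_source r
    (Scheme.openCoverOfIsOpenCover _ (fun y => r ⁻¹ᵁ D y) (top_le_iff.1 fun y _ => Opens.mem_iSup.2 ⟨y, hyD y⟩))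
    (fun y y' h => ?_) fun y => ?_
  · haveI := hD y
    have h1 : y ∈ r ⁻¹ᵁ D y := hyD y
    have h2 : y' ∈ r ⁻¹ᵁ D y := by show r y' ∈ D y; rw [← h]; exact hyD y
    have h3 := (r ∣_ D y).isOpenEmbedding.injective (a₁ := ⟨y, h1⟩) (a₂ := ⟨y', h2⟩) (by
      apply (D y).ι.isOpenEmbedding.injective
      rw [← Scheme.Hom.comp_apply, ← Scheme.Hom.comp_apply, morphismRestrict_ι]
      exact h)
    exact congrArg Subtype.val h3
  · haveI := hD y
    show IsOpenImmersion ((r ⁻¹ᵁ D y).ι ≫ r)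
    rw [← morphismRestrict_ι]
    infer_instance

include hL hLq hjL hP hPL hr hu in
/-- The morphism is scheme theoretically dominant. -/
theorem isSchemeTheoreticallyDominant_r [QuasiCompact f] [QuasiCompact r]
    (htop : RelProj.domQ u pL chartL = ⊤) : IsSchemeTheoreticallyDominant r := by
  haveI := ProjQX.Family.isIso_pL hL hLq hjL hPL
  have hcov : ∀ π : P, ∃ D : P.affineOpens, π ∈ D.1 ∧ Function.Injective (r.app D.1).hom := fun π => by
    obtain ⟨U, hU, hpU, huU⟩ := hu (p π)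
    obtain ⟨z, hz⟩ := (ProjQX.mem_opensRange_emb (chart := chart) hU (x := π)).mpr hpU
    obtain ⟨m, g, hm, hg, hzg, -⟩ := Proj16.exists_basicOpen_subset (isOpen_univ (X := Proj (𝒜.deg U hU))) (Set.mem_univ z)
    obtain ⟨a, ha, haloc⟩ := exists_sect_locus hL hLq hjL u hU hg
    let D := RelProj.emb p chart U hU ''ᵁ Proj.basicOpen (𝒜.deg U hU) g
    have hD : IsAffineOpen D := (Proj.isAffineOpen_basicOpen (𝒜.deg U hU) g hg hm).image_of_isOpenImmersion _
    refine ⟨⟨D, hD⟩, ⟨z, hzg, hz⟩, (injective_iff_map_eq_zero _).mpr fun w' hw' => ?_⟩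
    let bD := Proj.awayι (𝒜.deg U hU) g hg hm ≫ RelProj.emb p chart U hU
    have hbD : bD.opensRange = D := by rw [Scheme.Hom.opensRange_comp, Proj.opensRange_awayι]
    have hle : ⊤ ≤ bD ⁻¹ᵁ D := fun x _ => hbD.le ⟨x, rfl⟩
    have hbij : Function.Bijective (bD.appLE D ⊤ hle).hom := by
      haveI : IsIso (bD.app D) := bD.isIso_app D hbD.ge
      rw [Scheme.Hom.appLE]
      haveI : IsIso (homOfLE hle) := ⟨homOfLE le_top, rfl, rfl⟩
      exact ConcreteCategory.bijective_of_isIso (bD.app D ≫ _)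
    obtain ⟨v, hv⟩ : ∃ v, v = (Scheme.ΓSpecIso _).hom.hom ((bD.appLE D ⊤ hle).hom w') := ⟨_, rfl⟩
    suffices hv0 : v = 0 by
      refine hbij.1 ?_
      rw [map_zero]
      apply (ConcreteCategory.bijective_of_isIso (Scheme.ΓSpecIso _).hom).1
      rw [map_zero]
      exact hv.symm.trans hv0
    have hmp : ∀ (V : X.Opens) (hV : IsAffineOpen V) (hVU : V ≤ f ⁻¹ᵁ U),
        HomogeneousLocalization.Away.map (u.gradedAt U hU V hV hVU) g v = 0 := fun V hV hVU => by
      let i : ProjQX.Idx u := ⟨U, hU, V, hV, hVU, m, hm, g, hg⟩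
      let φ := CommRingCat.ofHom (HomogeneousLocalization.Away.map (u.gradedAt U hU V hV hVU) g)
      have hfac : ProjQX.embDom chartL i ≫ r = Spec.map φ ≫ bD :=
        (ProjQX.isProjQMapOn_domQ_iff u chart chartL r).mp hr i
      have key : ∀ (A : Spec (CommRingCat.of (HomogeneousLocalization.Away (𝒮L.deg V hV)
          (u.gradedAt U hU V hV hVU g))) ⟶ P) (e : ⊤ ≤ A ⁻¹ᵁ D), A = ProjQX.embDom chartL i ≫ r →
          (A.appLE D ⊤ e).hom w' = 0 := fun A e hA => by
        subst hA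
        rw [Scheme.Hom.appLE, Scheme.Hom.comp_app]
        show ((Spec _).presheaf.map _).hom (((ProjQX.embDom chartL i).app _).hom ((r.app D).hom w')) = 0
        rw [hw', map_zero, map_zero]
      have h0 := key (Spec.map φ ≫ bD) (fun x _ => hle (show Spec.map φ x ∈ (⊤ : (Spec _).Opens) from trivial))
        hfac.symm
      rw [← Scheme.Hom.appLE_comp_appLE (Spec.map φ) bD D ⊤ ⊤ hle le_top] at h0
      have h1 : φ.hom v = (Scheme.ΓSpecIso _).hom.hom (((Spec.map φ).appTop).hom ((bD.appLE D ⊤ hle).hom w')) := by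
        rw [hv]
        exact (ConcreteCategory.congr_hom (Scheme.ΓSpecIso_naturality φ) ((bD.appLE D ⊤ hle).hom w')).symm
      rw [show (Spec.map φ).appLE ⊤ ⊤ le_top = (Spec.map φ).appTop by
        rw [Scheme.Hom.appTop, Scheme.Hom.app_eq_appLE]; rfl] at h0
      show φ.hom v = 0
      rw [h1]
      exact (congrArg _ h0).trans (map_zero _)
    obtain ⟨k, e, he, rfl⟩ := v.mk_surjective (𝒜.deg U hU) hg
    have hzero : rs 𝒮L (inf_le_left : f ⁻¹ᵁ U ⊓ AmpleX.locus a ≤ f ⁻¹ᵁ U) ((u.app U).hom e) = 0 := by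
      refine eq_of_locally_alg 𝒮L _ _ fun x hx => ?_
      obtain ⟨V, hV, hxV, hVle, s, hs⟩ := exists_affine_frame hL hx
      refine ⟨V, hVle, hxV, ?_⟩
      have hVU : V ≤ f ⁻¹ᵁ U := hVle.trans inf_le_left
      rw [map_zero, rs_rs, rs_app]
      obtain ⟨c, hc⟩ := S12143.mem_deg_eq hLq hjL hV s (bijective_of_isFrame hs) (u.map_mem U hU V hV hVU hg)
      obtain ⟨ce, hce⟩ := S12143.mem_deg_eq hLq hjL hV s (bijective_of_isFrame hs) (u.map_mem U hU V hV hVU he)
      have hcu : IsUnit c := by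
        have hl := AmpleX.locus_inf a hVU (FrobSplit29.isFrame_powT hs m) (ha V hV hVU s hs c hc)
        rw [inf_eq_right.2 (hVle.trans inf_le_right)] at hl
        have h3 := isUnit_resR (le_refl V) c hl.le
        rwa [show resR (le_refl V) c = c from congr($(X.presheaf.map_id (op V)).hom c)] at h3
      have h2 := congrArg HomogeneousLocalization.val (hmp V hV hVU)
      rw [HomogeneousLocalization.Away.map_mk, HomogeneousLocalization.Away.val_mk, HomogeneousLocalization.val_zero,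
        Localization.mk_eq_mk', IsLocalization.mk'_eq_zero_iff] at h2
      obtain ⟨⟨_, l, rfl⟩, hl⟩ := h2
      replace hl : ((u.appLE U V hVU).hom g) ^ l * (u.appLE U V hVU).hom e = 0 := hl
      replace hc : (u.appLE U V hVU).hom g = _ := hc
      replace hce : (u.appLE U V hVU).hom e = _ := hce
      rw [hc, hce, mul_pow, ← map_pow, mul_mul_mul_comm, ← map_mul, ← pow_mul, ← pow_add] at hl
      have h4 : Coord (jL := jL) (m * l + k • m) s (0 : 𝒮L.presheaf.obj (op V)) (c ^ l * ce) := hl.symm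
      have h5 : Coord (jL := jL) (m * l + k • m) s (0 : 𝒮L.presheaf.obj (op V)) 0 := by
        show _ = _; rw [map_zero, zero_mul]
      have h6 := Coord.unique hLq hjL hV hs h4 h5
      rw [hce, (hcu.pow l).mul_right_eq_zero.1 h6, map_zero, zero_mul]
    obtain ⟨j, hj⟩ := exists_pow_mul_eq_zero hL hLq hjL (f.isCompact_preimage hU.isCompact)
      (locDeg_app u hU hg) haloc (locDeg_app u hU he) hzero
    rw [← map_pow, ← map_mul] at hj
    apply HomogeneousLocalization.val_injective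
    rw [HomogeneousLocalization.Away.val_mk, HomogeneousLocalization.val_zero, Localization.mk_eq_mk',
      IsLocalization.mk'_eq_zero_iff]
    exact ⟨⟨g ^ j, j, rfl⟩, huU.1 (hj.trans (map_zero _).symm)⟩
  choose D hπ hinj using hcov
  refine ⟨Scheme.IdealSheafData.ext_of_iSup_eq_top D (top_le_iff.1 fun π _ => Opens.mem_iSup.2 ⟨π, hπ π⟩) fun π => ?_⟩
  rw [Scheme.Hom.ker_apply, Scheme.IdealSheafData.ideal_bot, Pi.bot_apply, ← RingHom.injective_iff_ker_eq_bot]
  exact hinj π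

end Groth.Agent.QRel17
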