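import Groth.Agent.RelVA16.DegOne
import Groth.Agent.RelVA16.ToProjQ
import Groth.Agent.RelVA16.ToPBIso
import Groth.Agent.ProjQX.Comp
import Groth.Agent.ProjQX.Family
import Groth.Agent.QCoh.Localize
import Groth.Agent.S12143

/-!
# Degree one of a graded morphism into the symmetric algebra of an invertible module
-/

set_option autoImplicit false
set_option linter.style.haveILetI false
set_option backward.isDefEq.respectTransparency false
set_option backward.isDefEq.respectTransparency.types false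

universe u

open CategoryTheory CategoryTheory.Limits AlgebraicGeometry TopologicalSpace Opposite
open scoped HomogeneousIdeal

noncomputable section

namespace Groth.Agent.QRel17

open Groth.Agent Groth.Agent.AModX Groth.Agent.SymAlgX Groth.Agent.RelVA16

variable {X Y : Scheme.{u}} {f : X ⟶ Y} {L : X.Modules} (hL : PicF.IsInvertible L) (hLq : Coh.IsQCoh L)
  {𝒮L : RelProj.QCGrAlg X} {jL : L ⟶ 𝒮L.toModule} (hjL : RelProj.IsGrSymAlg L 𝒮L jL)

theorem rB_res {𝒯 : RelProj.QCGrAlg X} (j : L ⟶ 𝒯.toModule) {U V : X.Opens} (h : V ≤ U) (e : Γ(L, U)) :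
    QCoh.rB 𝒯.toQCAlg h (jv 𝒯.toQCAlg j U e) = jv 𝒯.toQCAlg j V (res L h e) :=
  rB_jv 𝒯.toQCAlg j h e

theorem bijective_of_isFrame {W : X.Opens} {s : Γ(L, W)} (hs : InvX.IsFrame s) :
    Function.Bijective fun r : Γ(X, W) => r • s := by
  have := hs W le_rfl
  simp only [res_self] at this
  exact this

theorem evT_monomial {W : X.Opens} (s : Γ(L, W)) (r : Γ(X, W)) :
    S12143.evT jL s (Polynomial.C r * Polynomial.X) = jv 𝒮L.toQCAlg jL W (r • s) := by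
  show Polynomial.eval₂ _ _ (Polynomial.C r * Polynomial.X) = _
  rw [Polynomial.eval₂_mul, Polynomial.eval₂_C, Polynomial.eval₂_X, RelVA16.jv_smul]

include hLq hjL in
theorem jv_injective_of_frame {W : X.Opens} (hW : IsAffineOpen W) {s : Γ(L, W)} (hs : InvX.IsFrame s) :
    Function.Injective (jv 𝒮L.toQCAlg jL W) := fun a b hab => by
  obtain ⟨r, rfl⟩ := (bijective_of_isFrame hs).2 a
  obtain ⟨r', rfl⟩ := (bijective_of_isFrame hs).2 b
  simp only [← evT_monomial] at hab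
  have := congrArg (Polynomial.coeff · 1) ((S12143.evT_bijective hLq hjL.1 hW s (bijective_of_isFrame hs)).1 hab)
  simp only [Polynomial.coeff_C_mul, Polynomial.coeff_X_one, mul_one] at this
  show r • s = r' • s
  rw [this]

include hL in
/-- Affine opens with a frame of `L` form a basis. -/
theorem exists_affine_frame {O : X.Opens} {x : X} (hx : x ∈ O) :
    ∃ (W : X.Opens) (_ : IsAffineOpen W) (_ : x ∈ W) (_ : W ≤ O) (s : Γ(L, W)), InvX.IsFrame s := by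
  obtain ⟨U, hxU, e, he⟩ := InvX.exists_frame hL x
  obtain ⟨W, hW, hxW, hWO⟩ := exists_isAffineOpen_mem_and_subset (X := X) (x := x) (U := U ⊓ O) ⟨hxU, hx⟩
  exact ⟨W, hW, hxW, fun y hy => (hWO hy).2, res L (fun y hy => (hWO hy).1) e, he.res _⟩

include hL hLq hjL in
theorem jv_injective (O : X.Opens) : Function.Injective (jv 𝒮L.toQCAlg jL O) := fun a b hab => by
  refine eq_of_locally a b fun x hx => ?_
  obtain ⟨W, hW, hxW, hWO, s, hs⟩ := exists_affine_frame hL hx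
  refine ⟨W, hWO, hxW, jv_injective_of_frame hLq hjL hW hs ?_⟩
  rw [← rB_res jL hWO, ← rB_res jL hWO, hab]

variable {𝒜 : RelProj.QCGrAlg Y} (u : RelProj.QGrHom f 𝒜 𝒮L)
  {e₁ : 𝒜.toModule ⟶ 𝒜.toModule}
  (he₁ : ∀ (U : Y.Opens) (hU : IsAffineOpen U) (b : 𝒜.presheaf.obj (op U)),
    (e₁.app U b : 𝒜.presheaf.obj (op U)) = RelVA16.projOne 𝒜 U hU b)

include hL hLq hjL he₁ in
theorem exists_lift (U : Y.Opens) (a : Γ(𝒜.toModule, U)) :
    ∃ s : Γ(L, f ⁻¹ᵁ U), jv 𝒮L.toQCAlg jL (f ⁻¹ᵁ U) s = (u.app U).hom (e₁.app U a) := by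
  classical
  let b : 𝒮L.presheaf.obj (op (f ⁻¹ᵁ U)) := (u.app U).hom (e₁.app U a)
  have hloc : ∀ x : (f ⁻¹ᵁ U : X.Opens), ∃ (W : X.Opens) (h : W ≤ f ⁻¹ᵁ U) (s : Γ(L, W)),
      x.1 ∈ W ∧ jv 𝒮L.toQCAlg jL W s = (𝒮L.presheaf.map (homOfLE h).op).hom b := fun x => by
    obtain ⟨U₀, hU₀, hxU₀, hle₀'⟩ := exists_isAffineOpen_mem_and_subset (X := Y) (x := f x.1) (U := U) x.2
    have hle₀ : U₀ ≤ U := hle₀'
    obtain ⟨W, hW, hxW, hWO, s, hs⟩ := exists_affine_frame hL (show x.1 ∈ f ⁻¹ᵁ U₀ from hxU₀)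
    refine ⟨W, hWO.trans (f.preimage_mono hle₀), ?_⟩
    have hd : (u.appLE U₀ W hWO).hom (e₁.app U₀ (res _ hle₀ a)) ∈ 𝒮L.deg W hW 1 := by
      refine u.map_mem U₀ hU₀ W hW hWO ?_
      rw [he₁ U₀ hU₀]
      exact SetLike.coe_mem _
    obtain ⟨r, hr⟩ := S12143.mem_deg_eq hLq hjL hW s (bijective_of_isFrame hs) hd
    refine ⟨r • s, hxW, ?_⟩
    rw [RelVA16.jv_smul, show (𝒮L.str.app (op W)).hom r * jv 𝒮L.toQCAlg jL W s =
      (u.appLE U₀ W hWO).hom (e₁.app U₀ (res _ hle₀ a)) by rw [hr, pow_one],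
      app_res e₁ hle₀ a]
    show ((𝒜.presheaf.map (homOfLE hle₀).op) ≫ u.appLE U₀ W hWO).hom (e₁.app U a) = _
    rw [RelSpec.QHom.map_appLE]
    rfl
  choose W hW s hxW hs using hloc
  obtain ⟨S, hS, -⟩ := existsUnique_glue (M := L) W hW (fun p hp => ⟨⟨p, hp⟩, hxW _⟩) s fun i j => by
    refine jv_injective hL hLq hjL _ ?_
    rw [← rB_res jL inf_le_left, ← rB_res jL (inf_le_right : W i ⊓ W j ≤ W j), hs, hs]
    show (𝒮L.presheaf.map _ ≫ 𝒮L.presheaf.map _).hom b = (𝒮L.presheaf.map _ ≫ 𝒮L.presheaf.map _).hom b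
    rw [← Functor.map_comp, ← Functor.map_comp]
    rfl
  refine ⟨S, eq_of_locally (M := 𝒮L.toModule) _ _ fun x hx => ⟨W ⟨x, hx⟩, hW _, hxW _, ?_⟩⟩
  show QCoh.rB 𝒮L.toQCAlg (hW _) (jv 𝒮L.toQCAlg jL _ S) = _
  rw [rB_res, hS, hs]
  rfl

include hL hLq hjL he₁ in
/-- The degree one part of `u`, as a morphism `𝒜 ⟶ f_* L`. -/
theorem exists_theta : ∃ θ : 𝒜.toModule ⟶ (Scheme.Modules.pushforward f).obj L,
    ∀ (U : Y.Opens) (a : Γ(𝒜.toModule, U)),
      jv 𝒮L.toQCAlg jL (f ⁻¹ᵁ U) (θ.app U a) = (u.app U).hom (e₁.app U a) := by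
  choose g hg using exists_lift hL hLq hjL u he₁
  have hinj := jv_injective hL hLq hjL
  have hadd : ∀ (U : Y.Opens) (a b : Γ(𝒜.toModule, U)), g U (a + b) = g U a + g U b := fun U a b => hinj _ (by
    rw [show jv 𝒮L.toQCAlg jL (f ⁻¹ᵁ U) (g U a + g U b) =
      jv 𝒮L.toQCAlg jL (f ⁻¹ᵁ U) (g U a) + jv 𝒮L.toQCAlg jL (f ⁻¹ᵁ U) (g U b) from map_add (jL.app _).hom _ _,
      hg, hg, hg]
    exact (congrArg (u.app U).hom (map_add (e₁.app U).hom a b)).trans (map_add (u.app U).hom _ _))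
  let α : 𝒜.toModule.presheaf ⟶ ((Scheme.Modules.pushforward f).obj L).presheaf :=
    { app := fun U => AddCommGrpCat.ofHom
        (show Γ(𝒜.toModule, U.unop) →+ Γ(L, f ⁻¹ᵁ U.unop) from AddMonoidHom.mk' (g U.unop) (hadd U.unop))
      naturality := fun U V i => by
        ext a
        refine hinj (f ⁻¹ᵁ V.unop) ?_
        show jv 𝒮L.toQCAlg jL _ (g V.unop (res _ (leOfHom i.unop) a)) =
          jv 𝒮L.toQCAlg jL _ (res L (f.preimage_mono (leOfHom i.unop)) (g U.unop a))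
        rw [hg, ← rB_res, hg, app_res e₁]
        exact (ConcreteCategory.congr_hom (u.naturality (leOfHom i.unop)) (e₁.app U.unop a)).symm }
  refine ⟨⟨PresheafOfModules.homMk α fun O (r : Γ(Y, O.unop)) (e : Γ(𝒜.toModule, O.unop)) => ?_⟩,
    fun U a => hg U a⟩
  refine hinj _ ?_
  show jv 𝒮L.toQCAlg jL _ (g O.unop (r • e)) =
    jv 𝒮L.toQCAlg jL _ ((f.app O.unop).hom r • g O.unop e)
  rw [hg, RelVA16.jv_smul, hg, Scheme.Modules.Hom.app_smul]
  refine (map_mul (u.app O.unop).hom _ _).trans (congrArg (· * _) ?_)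
  exact ConcreteCategory.congr_hom (u.str_app O.unop) r

include hL hLq hjL he₁ in
/-- `θ` generates when `u` generates in degree one. -/
theorem gen_of_surj {θ : 𝒜.toModule ⟶ (Scheme.Modules.pushforward f).obj L}
    (hθ : ∀ (U : Y.Opens) (a : Γ(𝒜.toModule, U)),
      jv 𝒮L.toQCAlg jL (f ⁻¹ᵁ U) (θ.app U a) = (u.app U).hom (e₁.app U a))
    (hsurj : ∀ x : X, ∃ (U : Y.Opens) (hU : IsAffineOpen U) (e : 𝒜.presheaf.obj (op U)) (_ : e ∈ 𝒜.deg U hU 1)
        (V : X.Opens) (hV : IsAffineOpen V) (hVU : V ≤ f ⁻¹ᵁ U), x ∈ V ∧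
          ((𝒮L.deg V hV 1 : AddSubgroup (𝒮L.presheaf.obj (op V))) : Set (𝒮L.presheaf.obj (op V))) ⊆
            (Ideal.span {(u.appLE U V hVU).hom e} : Set (𝒮L.presheaf.obj (op V)))) :
    RelVA16.Gen θ := fun x => by
  obtain ⟨U, hU, e, he, V, hV, hVU, hxV, hspan⟩ := hsurj x
  obtain ⟨U₀, hxU₀, s₀, hs₀⟩ := InvX.exists_frame hL x
  obtain ⟨b, hbU, hxb⟩ := hV.exists_basicOpen_le ⟨x, hxU₀⟩ hxV
  obtain ⟨n, t, ht⟩ := QCoh.exists_pow_smul_eq_map hLq hV b (res L hbU s₀)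
  have hD : IsAffineOpen (X.basicOpen b) := hV.basicOpen b
  have hs : InvX.IsFrame (res L hbU s₀) := hs₀.res hbU
  have hbV := X.basicOpen_le b
  refine ⟨U, hU, e, X.basicOpen b, hbV.trans hVU, hxb, ?_⟩
  have hd1 : jv 𝒮L.toQCAlg jL V t ∈ 𝒮L.deg V hV 1 := hjL.2 V hV t
  obtain ⟨c, hc⟩ := Ideal.mem_span_singleton'.1 (hspan hd1)
  have hτ : jv 𝒮L.toQCAlg jL V (thv θ hVU e) = (u.appLE U V hVU).hom e := by
    rw [thv, ← rB_res, hθ]
    have h1 : (e₁.app U e : 𝒜.presheaf.obj (op U)) = e := by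
      rw [he₁ U hU]
      exact DirectSum.decompose_of_mem_same (𝒜.deg U hU) he
    rw [h1]
    rfl
  obtain ⟨a, ha⟩ := (bijective_of_isFrame hs).2 (res L hbV t)
  obtain ⟨d, hd⟩ := (bijective_of_isFrame hs).2 (res L hbV (thv θ hVU e))
  have hbij := S12143.evT_bijective hLq hjL.1 hD _ (bijective_of_isFrame hs)
  obtain ⟨P, hP⟩ := hbij.2 (QCoh.rB 𝒮L.toQCAlg hbV c)
  have hrel : Polynomial.C a * Polynomial.X = P * (Polynomial.C d * Polynomial.X) := by
    apply hbij.1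
    rw [map_mul _ P, hP, evT_monomial, evT_monomial]
    show jv 𝒮L.toQCAlg jL _ ((fun r => r • _) a) = _ * jv 𝒮L.toQCAlg jL _ ((fun r => r • _) d)
    rw [ha, hd, ← rB_res jL hbV, ← rB_res jL hbV, hτ, ← hc, map_mul]
  have hau : IsUnit a := by
    have h2 : a • res L hbU s₀ = resR hbV b ^ n • res L hbU s₀ := ha.trans ht
    rw [(bijective_of_isFrame hs).1 h2]
    exact (isUnit_resR hbV b le_rfl).pow n
  have hdu : IsUnit d := by
    have h3 := congrArg (Polynomial.coeff · 1) hrel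
    simp only [← mul_assoc, Polynomial.coeff_mul_X, Polynomial.coeff_C_zero, Polynomial.coeff_mul_C] at h3
    exact isUnit_of_mul_isUnit_right (h3 ▸ hau)
  rw [← thv_res θ hVU hbV, ← hd]
  exact hs.isUnit_smul hdu

end Groth.Agent.QRel17
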